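import Cfsg.Prelude.Def_Sporadic_a
/-! Holds the on-demand equation lemmas of the recursive definitions of Def_Sporadic_a, so that no other file makes its own copy. -/
namespace Base
theorem eqns_EqSporA_1 : True := by
  have := @Cfsg.pointBlockRel.eq_4.{0}
  trivial
theorem eqns_EqSporA_2 : True := by
  have := @Cfsg.pointBlockRel.eq_def.{0}
  trivial
end Base
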