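import Cfsg.Prelude.Def_StandardType
/-! Holds the on-demand equation lemmas of the recursive definitions of Def_StandardType, so that no other file makes its own copy. -/
namespace Base
theorem eqns_EqStd_1 : True := by
  have := @Cfsg.LieFamilyTwo.twisted.eq_7
  trivial
theorem eqns_EqStd_2 : True := by
  have := @Cfsg.LieFamilyTwo.twisted.eq_def
  trivial
end Base
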